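import Groth.Agent.Fib44.CechTorsor

/-!
Equivariant morphisms of torsors are isomorphisms; trivial torsors; the boundary of a section of a
quotient sheaf and exactness of the non-abelian sequence, on any site.
-/

set_option autoImplicit false
universe w v u

open CategoryTheory Opposite NonAbH1

namespace Groth.Agent.Bdry37

variable {C : Type u} [Category.{v} C] {J : GrothendieckTopology C} {G : Sheaf J GrpCat.{w}}

theorem type_ext (P : Sheaf J (Type w)) {X : C} {S : Sieve X} (hS : S ∈ J X) {a b : P.obj.obj (op X)}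
    (h : ∀ ⦃Y : C⦄ (f : Y ⟶ X), S f → P.obj.map f.op a = P.obj.map f.op b) : a = b := by
  obtain ⟨p, -, hu⟩ := Fib44.type_glue P hS (fun Y f _ => P.obj.map f.op b) fun Z Y k f _ => by simp
  exact (hu a h).trans (hu b fun _ _ _ => rfl).symm

theorem smul_eq_self {P : GSheaf G} (hP : P.IsPseudoTorsor) {X : Cᵒᵖ} {g : G.obj.obj X}
    {p : P.P.obj.obj X} (h : P.smul g p = p) : g = 1 :=
  Fib44.gsheaf_cancel hP (h.trans (P.one_smul p).symm)

theorem app_bijective {P Q : GSheaf G} (hP : P.IsTorsor) (hQ : Q.IsPseudoTorsor) (f : P ⟶ Q)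
    (X : Cᵒᵖ) : Function.Bijective (f.hom.hom.app X) := by
  have hinj : ∀ X : Cᵒᵖ, Function.Injective (f.hom.hom.app X) := fun X p q h => by
    obtain ⟨g, hg, -⟩ := hP.1 X p q
    have h1 : Q.smul g (f.hom.hom.app X p) = f.hom.hom.app X p := by rw [← f.map_smul, hg, h]
    rw [← hg, smul_eq_self hQ h1, P.one_smul]
  refine ⟨hinj X, fun y => ?_⟩
  obtain ⟨X⟩ := X
  obtain ⟨S, hS, hne⟩ := hP.2 X
  have hex : ∀ ⦃Y : C⦄ (k : Y ⟶ X), S k →
      ∃ p, f.hom.hom.app (op Y) p = Q.P.obj.map k.op y := fun Y k hk => by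
    obtain ⟨p⟩ := hne k hk
    obtain ⟨g, hg, -⟩ := hQ (op Y) (f.hom.hom.app (op Y) p) (Q.P.obj.map k.op y)
    exact ⟨P.smul g p, by rw [f.map_smul, hg]⟩
  choose p hp using hex
  obtain ⟨x, hx, -⟩ := Fib44.type_glue P.P hS (fun Y k hk => p k hk) fun Z Y l k hk => hinj _ (by
    rw [NatTrans.naturality_apply, hp k hk, hp]
    simp)
  refine ⟨x, type_ext Q.P hS fun Y k hk => ?_⟩
  rw [← NatTrans.naturality_apply, hx k hk, hp k hk]

theorem nonempty_iso_of_hom {P Q : GSheaf G} (hP : P.IsTorsor) (hQ : Q.IsPseudoTorsor) (f : P ⟶ Q) :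
    Nonempty (P ≅ Q) := by
  have : ∀ X, IsIso (f.hom.hom.app X) := fun X =>
    (isIso_iff_bijective _).mpr (app_bijective hP hQ f X)
  have : IsIso f.hom.hom := NatIso.isIso_of_isIso_app _
  let φ : Q.P ⟶ P.P := ⟨inv f.hom.hom⟩
  have h1 : f.hom ≫ φ = 𝟙 _ := Sheaf.hom_ext (IsIso.hom_inv_id f.hom.hom)
  have h2 : φ ≫ f.hom = 𝟙 _ := Sheaf.hom_ext (IsIso.inv_hom_id f.hom.hom)
  have h2' : ∀ (X : Cᵒᵖ) (q : Q.P.obj.obj X), f.hom.hom.app X (φ.hom.app X q) = q := fun X q =>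
    ConcreteCategory.congr_hom (congrArg (fun t : Q.P ⟶ Q.P => t.hom.app X) h2) q
  refine ⟨⟨f, ⟨φ, fun {X} g q => (app_bijective hP hQ f X).1 ?_⟩, GSheaf.hom_ext h1,
    GSheaf.hom_ext h2⟩⟩
  rw [f.map_smul, h2', h2']

section Trivial

variable [J.HasSheafCompose (forget GrpCat.{w})]

theorem nonempty_iso_trivial_iff {P : GSheaf G} (hP : P.IsPseudoTorsor) :
    Nonempty (GSheaf.trivial G ≅ P) ↔ P.HasSection := by
  constructor
  · rintro ⟨e⟩
    refine ⟨fun X => e.hom.hom.hom.app X (GSheaf.ofGrp (1 : G.obj.obj X)), fun {X Y} k => ?_⟩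
    rw [← NatTrans.naturality_apply]
    exact congrArg _ (map_one (G.obj.map k).hom)
  · rintro ⟨s, hs⟩
    let f : GSheaf.trivial G ⟶ P :=
      ⟨⟨{ app := fun X => ↾fun g => P.smul (GSheaf.toGrp g) (s X)
          naturality := fun X Y k => by
            refine ConcreteCategory.hom_ext _ _ fun g => ?_
            change P.smul (G.obj.map k (GSheaf.toGrp g)) (s Y) =
              P.P.obj.map k (P.smul (GSheaf.toGrp g) (s X))
            rw [P.map_smul, hs k] }⟩,
        fun {X} g h => P.mul_smul g (GSheaf.toGrp h) (s X)⟩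
    exact nonempty_iso_of_hom (GSheaf.isTorsor_trivial G) hP f

theorem cl_eq_one_iff (T : NonAbH1.Torsor G) : T.cl = 1 ↔ T.toGSheaf.HasSection := by
  rw [← nonempty_iso_trivial_iff T.isTorsor.1]
  constructor
  · intro h
    have heq : Equivalence fun P Q : NonAbH1.Torsor G => Nonempty (P.toGSheaf ≅ Q.toGSheaf) :=
      ⟨fun P => ⟨Iso.refl _⟩, fun ⟨e⟩ => ⟨e.symm⟩, fun ⟨e⟩ ⟨e'⟩ => ⟨e.trans e'⟩⟩
    obtain ⟨e⟩ := heq.eqvGen_iff.mp (Quot.eqvGen_exact h)
    exact ⟨e.symm⟩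
  · rintro ⟨e⟩
    exact Quot.sound ⟨e.symm⟩

section Boundary

open GSheaf

variable {F : Sheaf J GrpCat.{w}} {u : F ⟶ G} {Q : GSheaf G} {π : GSheaf.trivial G ⟶ Q}

/-- The image in `Q` of a section of `G`. -/
abbrev pr (π : GSheaf.trivial G ⟶ Q) {X : Cᵒᵖ} (g : G.obj.obj X) : Q.P.obj.obj X :=
  π.hom.hom.app X (ofGrp g)

theorem pr_map {X Y : Cᵒᵖ} (k : X ⟶ Y) (g : G.obj.obj X) :
    Q.P.obj.map k (pr π g) = pr π (G.obj.map k g) := (NatTrans.naturality_apply π.hom.hom k _).symm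

theorem pr_mul {X : Cᵒᵖ} (g h : G.obj.obj X) : pr π (g * h) = Q.smul g (pr π h) := π.map_smul g (ofGrp h)

theorem pr_mul_u (hQ : IsQuotientBy u π) {X : Cᵒᵖ} (g : G.obj.obj X) (f : F.obj.obj X) :
    pr π (g * u.hom.app X f) = pr π g := ((hQ.1 X g _).mpr ⟨f, rfl⟩).symm

theorem u_map {X Y : Cᵒᵖ} (k : X ⟶ Y) (f : F.obj.obj X) :
    u.hom.app Y (F.obj.map k f) = G.obj.map k (u.hom.app X f) := NatTrans.naturality_apply u.hom k f

/-- The sheaf of liftings of a section of the quotient. -/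
theorem exists_isFibreOver (hQ : IsQuotientBy u π) (c : Q.P.obj.sections) :
    ∃ T : GSheaf F, IsFibreOver u π c T := by
  let P₀ : Cᵒᵖ ⥤ Type w :=
    { obj := fun X => { g : (uSh G).obj.obj X // π.hom.hom.app X g = c.1 X }
      map := fun {X Y} k => ↾fun g => ⟨(uSh G).obj.map k g.1, by
        refine ((NatTrans.naturality_apply π.hom.hom k g.1).trans ?_).trans (c.2 k)
        exact congrArg _ g.2⟩
      map_id := fun X => ConcreteCategory.hom_ext _ _ fun g => Subtype.ext (by simp)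
      map_comp := fun {X Y Z} k l => ConcreteCategory.hom_ext _ _ fun g => Subtype.ext (by simp) }
  have hP₀ : Presheaf.IsSheaf J P₀ := by
    rw [isSheaf_iff_isSheaf_of_type]
    intro X S hS x hx
    rw [Presieve.compatible_iff_sieveCompatible] at hx
    obtain ⟨g, hg, hgu⟩ := Fib44.type_glue (uSh G) hS (fun Y f hf => (x f hf).1) fun Z Y k f hf =>
      (congrArg Subtype.val (hx f k hf)).symm
    refine ⟨⟨g, type_ext Q.P hS fun Y f hf => ?_⟩, fun Y f hf => Subtype.ext (hg f hf),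
      fun g' hg' => Subtype.ext (hgu _ fun Y f hf => congrArg Subtype.val (hg' f hf))⟩
    have e1 : π.hom.hom.app (op Y) ((uSh G).obj.map f.op g) =
        Q.P.obj.map f.op (π.hom.hom.app (op X) g) := NatTrans.naturality_apply π.hom.hom f.op g
    rw [hg f hf, (x f hf).2] at e1
    exact e1.symm.trans (c.2 f.op).symm
  refine ⟨{ P := ⟨P₀, hP₀⟩
            smul := fun {X} f g => ⟨ofGrp (toGrp g.1 * (u.hom.app X f)⁻¹), ?_⟩
            one_smul := fun {X} g => Subtype.ext ?_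
            mul_smul := fun {X} f f' g => Subtype.ext ?_
            map_smul := fun {X Y} k f g => Subtype.ext ?_ },
    (⟨{ app := fun X => ↾fun g => g.1, naturality := fun _ _ _ => rfl }⟩ :
      (⟨P₀, hP₀⟩ : Sheaf J (Type w)) ⟶ uSh G),
    fun X => Subtype.val_injective, fun X g => ⟨?_, fun h => ⟨⟨g, h⟩, rfl⟩⟩, fun X f t => rfl⟩
  · have : pr π (toGrp g.1 * (u.hom.app X f)⁻¹) = pr π (toGrp g.1) := by
      rw [← map_inv]; exact pr_mul_u hQ _ _
    exact this.trans g.2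
  · change toGrp g.1 * (u.hom.app X 1)⁻¹ = toGrp g.1
    simp
  · change toGrp g.1 * (u.hom.app X (f * f'))⁻¹ = toGrp g.1 * (u.hom.app X f')⁻¹ * (u.hom.app X f)⁻¹
    simp [mul_assoc]
  · change G.obj.map k (toGrp g.1 * (u.hom.app X f)⁻¹) =
      G.obj.map k (toGrp g.1) * (u.hom.app Y (F.obj.map k f))⁻¹
    rw [u_map, map_mul, map_inv]
  · rintro ⟨t, rfl⟩
    exact t.2

theorem isTorsor_of_isFibreOver (hu : ∀ X : Cᵒᵖ, Function.Injective (u.hom.app X))
    (hQ : IsQuotientBy u π) {c : Q.P.obj.sections} {T : GSheaf F} (hT : IsFibreOver u π c T) :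
    T.IsTorsor := by
  obtain ⟨ι, hinj, himg, heq⟩ := hT
  refine ⟨fun X t t' => ?_, fun X => ?_⟩
  · have h1 := (himg X _).mp ⟨t, rfl⟩
    have h2 := (himg X _).mp ⟨t', rfl⟩
    obtain ⟨f, hf⟩ := (hQ.1 X (toGrp (ι.hom.app X t)) (toGrp (ι.hom.app X t'))).mp (h1.trans h2.symm)
    refine ⟨f⁻¹, hinj X ?_, fun f' hf' => ?_⟩
    · change toGrp (ι.hom.app X (T.smul f⁻¹ t)) = toGrp (ι.hom.app X t')
      rw [heq, map_inv, inv_inv, hf]
    · have : toGrp (ι.hom.app X t') = toGrp (ι.hom.app X t) * (u.hom.app X f')⁻¹ := by rw [← heq, hf']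
      rw [hf, mul_right_inj, ← map_inv] at this
      rw [hu X this, inv_inv]
  · obtain ⟨S, hS, hne⟩ := hQ.2 X (c.1 (op X))
    refine ⟨S, hS, fun Y a ha => ?_⟩
    obtain ⟨g, hg⟩ := hne a ha
    obtain ⟨t, -⟩ := (himg (op Y) g).mpr (hg.trans (c.2 a.op))
    exact ⟨t⟩

/-- Transport of liftings along left translation by a global section of `G`. -/
theorem nonempty_iso_of_translate (hu : ∀ X : Cᵒᵖ, Function.Injective (u.hom.app X))
    (hQ : IsQuotientBy u π) {c c' : Q.P.obj.sections} {T T' : GSheaf F}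
    (hT : IsFibreOver u π c T) (hT' : IsFibreOver u π c' T') (g : (uSh G).obj.sections)
    (hg : ∀ X : Cᵒᵖ, Q.smul (toGrp (g.1 X)) (c.1 X) = c'.1 X) : Nonempty (T ≅ T') := by
  have htor := isTorsor_of_isFibreOver hu hQ hT
  have htor' := isTorsor_of_isFibreOver hu hQ hT'
  obtain ⟨ι, hinj, himg, heq⟩ := hT
  obtain ⟨ι', hinj', himg', heq'⟩ := hT'
  have hex : ∀ (X : Cᵒᵖ) (t : T.P.obj.obj X),
      ∃ t', toGrp (ι'.hom.app X t') = toGrp (g.1 X) * toGrp (ι.hom.app X t) := fun X t =>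
    (himg' X _).mpr (((pr_mul _ _).trans (congrArg _ ((himg X _).mp ⟨t, rfl⟩))).trans (hg X))
  choose φ hφ using hex
  refine nonempty_iso_of_hom htor htor'.1 ⟨⟨{ app := fun X => ↾(φ X), naturality := fun X Y k => ?_ }⟩,
    fun {X} f t => hinj' X ?_⟩
  · refine ConcreteCategory.hom_ext _ _ fun t => hinj' Y ?_
    change toGrp (ι'.hom.app Y (φ Y (T.P.obj.map k t))) = toGrp (ι'.hom.app Y (T'.P.obj.map k (φ X t)))
    rw [NatTrans.naturality_apply ι'.hom k, hφ, NatTrans.naturality_apply ι.hom k]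
    change _ = G.obj.map k (toGrp (ι'.hom.app X (φ X t)))
    rw [hφ, map_mul, ← g.2 k]
    rfl
  · change toGrp (ι'.hom.app X (φ X (T.smul f t))) = toGrp (ι'.hom.app X (T'.smul f (φ X t)))
    rw [hφ, heq', hφ, heq, mul_assoc]

theorem nonempty_iso_fibres (hu : ∀ X : Cᵒᵖ, Function.Injective (u.hom.app X))
    (hQ : IsQuotientBy u π) {c : Q.P.obj.sections} {T T' : GSheaf F}
    (hT : IsFibreOver u π c T) (hT' : IsFibreOver u π c T') : Nonempty (T ≅ T') :=
  nonempty_iso_of_translate hu hQ hT hT'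
    ⟨fun X => ofGrp (1 : G.obj.obj X), fun {X Y} k => map_one (G.obj.map k).hom⟩
    fun X => Q.one_smul _

theorem exists_translate (hQ : IsQuotientBy u π) {c c' : Q.P.obj.sections} {T T' : GSheaf F}
    (htor : T.IsTorsor) (hT : IsFibreOver u π c T) (hT' : IsFibreOver u π c' T') (θ : T ⟶ T') :
    ∃ g : (uSh G).obj.sections, ∀ X : Cᵒᵖ, Q.smul (toGrp (g.1 X)) (c.1 X) = c'.1 X := by
  obtain ⟨ι, -, himg, heq⟩ := hT
  obtain ⟨ι', -, himg', heq'⟩ := hT'
  let d := fun {X : Cᵒᵖ} (t : T.P.obj.obj X) =>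
    toGrp (ι'.hom.app X (θ.hom.hom.app X t)) * (toGrp (ι.hom.app X t))⁻¹
  have hd : ∀ {X : Cᵒᵖ} (t t' : T.P.obj.obj X), d t = d t' := fun {X} t t' => by
    obtain ⟨f, rfl, -⟩ := htor.1 X t t'
    simp only [d]
    rw [θ.map_smul, heq, heq', mul_inv_rev, inv_inv, mul_assoc _ (u.hom.app X f)⁻¹,
      inv_mul_cancel_left]
  have hdn : ∀ {X Y : Cᵒᵖ} (k : X ⟶ Y) (t : T.P.obj.obj X),
      G.obj.map k (d t) = d (T.P.obj.map k t) := fun {X Y} k t => by
    simp only [d, map_mul, map_inv, NatTrans.naturality_apply]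
    rfl
  choose S hS hne using fun X : C => htor.2 X
  have key : ∀ X : C, ∃! g : G.obj.obj (op X),
      ∀ ⦃Y : C⦄ (a : Y ⟶ X), S X a → ∀ t : T.P.obj.obj (op Y), G.obj.map a.op g = d t := by
    intro X
    choose t ht using fun (Y : C) (a : Y ⟶ X) (ha : S X a) => (⟨(hne X a ha).some, trivial⟩ :
      ∃ _ : T.P.obj.obj (op Y), True)
    obtain ⟨g, hg, hgu⟩ := Fib44.grp_glue (G := G) (hS X) (fun Y a ha => d (t Y a ha))
      fun Z Y k a ha => by rw [hdn]; exact hd _ _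
    exact ⟨g, fun Y a ha t' => (hg a ha).trans (hd _ _), fun g' hg' => hgu g' fun Y a ha => hg' a ha _⟩
  choose g hg hgu using key
  have hg' : ∀ (X : C) (t : T.P.obj.obj (op X)), g X = d t := fun X t =>
    Fib44.grp_ext (hS X) fun Y a ha => by rw [hdn]; exact hg X a ha _
  refine ⟨⟨fun X => ofGrp (g X.unop), fun {X Y} k => ?_⟩, fun X => ?_⟩
  · obtain ⟨X⟩ := X
    obtain ⟨Y⟩ := Y
    change G.obj.map k (g X) = g Y
    refine Fib44.grp_ext (hS Y) fun Z a ha => ?_
    obtain ⟨t⟩ := hne Y a ha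
    rw [hg Y a ha t, ← hg' Z t]
    refine Fib44.grp_ext (J.intersection_covering (hS Z) (J.pullback_stable (a ≫ k.unop) (hS X)))
      fun W b hb => ?_
    obtain ⟨t'⟩ := hne Z b hb.1
    rw [hg Z b hb.1 t', ← hg X (b ≫ a ≫ k.unop) hb.2 t']
    simp
  · obtain ⟨X⟩ := X
    refine type_ext Q.P (hS X) fun Y a ha => ?_
    obtain ⟨t⟩ := hne X a ha
    rw [Q.map_smul, c.2 a.op, c'.2 a.op, ← (himg (op Y) _).mp ⟨t, rfl⟩]
    change Q.smul (G.obj.map a.op (g X)) _ = _
    rw [hg X a ha t, ← (himg' (op Y) _).mp ⟨θ.hom.hom.app _ t, rfl⟩]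
    refine (pr_mul _ _).symm.trans (congrArg (pr π) ?_)
    exact inv_mul_cancel_right _ _

theorem isPushforwardAlong_trivial_iff (hu : ∀ X : Cᵒᵖ, Function.Injective (u.hom.app X))
    (hQ : IsQuotientBy u π) {T : GSheaf F} (htor : T.IsTorsor) :
    IsPushforwardAlong u T (GSheaf.trivial G) ↔
      ∃ c : Q.P.obj.sections, IsFibreOver u π c T := by
  constructor
  · rintro ⟨f, hf⟩
    let ι : T.P ⟶ uSh G := f ≫ ⟨{ app := fun X => ↾fun g => ofGrp (toGrp g)⁻¹
                                  naturality := fun X Y k => ConcreteCategory.hom_ext _ _ fun g => by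
                                    change (G.obj.map k (toGrp g))⁻¹ = G.obj.map k (toGrp g)⁻¹
                                    rw [map_inv] }⟩
    have hι : ∀ (X : Cᵒᵖ) (t : T.P.obj.obj X), toGrp (ι.hom.app X t) = (toGrp (f.hom.app X t))⁻¹ :=
      fun X t => rfl
    have heq : ∀ (X : Cᵒᵖ) (a : F.obj.obj X) (t : T.P.obj.obj X),
        toGrp (ι.hom.app X (T.smul a t)) = toGrp (ι.hom.app X t) * (u.hom.app X a)⁻¹ := fun X a t => by
      rw [hι, hι, hf, ← mul_inv_rev]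
      rfl
    let e := fun {X : Cᵒᵖ} (t : T.P.obj.obj X) => pr π (toGrp (ι.hom.app X t))
    have he : ∀ {X : Cᵒᵖ} (t t' : T.P.obj.obj X), e t = e t' := fun {X} t t' => by
      obtain ⟨a, rfl, -⟩ := htor.1 X t t'
      simp only [e]
      rw [heq, ← map_inv, pr_mul_u hQ]
    have hen : ∀ {X Y : Cᵒᵖ} (k : X ⟶ Y) (t : T.P.obj.obj X),
        Q.P.obj.map k (e t) = e (T.P.obj.map k t) := fun {X Y} k t => by
      simp only [e]
      rw [pr_map, NatTrans.naturality_apply ι.hom k]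
      rfl
    choose S hS hne using fun X : C => htor.2 X
    have key : ∀ X : C, ∃! q : Q.P.obj.obj (op X), ∀ ⦃Y : C⦄ (a : Y ⟶ X), S X a →
        ∀ t : T.P.obj.obj (op Y), Q.P.obj.map a.op q = e t := by
      intro X
      obtain ⟨q, hq, hqu⟩ := Fib44.type_glue Q.P (hS X) (fun Y a ha => e (hne X a ha).some)
        fun Z Y k a ha => by rw [hen]; exact he _ _
      exact ⟨q, fun Y a ha t => (hq a ha).trans (he _ _), fun q' hq' => hqu q' fun Y a ha => hq' a ha _⟩
    choose q hq hqu using key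
    have hq' : ∀ (X : C) (t : T.P.obj.obj (op X)), q X = e t := fun X t =>
      type_ext Q.P (hS X) fun Y a ha => by rw [hen]; exact hq X a ha _
    refine ⟨⟨fun X => q X.unop, fun {X Y} k => ?_⟩, ι, ?_, fun X g => ⟨?_, ?_⟩, heq⟩
    · obtain ⟨X⟩ := X
      obtain ⟨Y⟩ := Y
      refine type_ext Q.P (hS Y) fun Z a ha => ?_
      obtain ⟨t⟩ := hne Y a ha
      rw [hq Y a ha t, ← hq' Z t]
      refine type_ext Q.P (J.intersection_covering (hS Z) (J.pullback_stable (a ≫ k.unop) (hS X)))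
        fun W b hb => ?_
      obtain ⟨t'⟩ := hne Z b hb.1
      rw [hq Z b hb.1 t', ← hq X (b ≫ a ≫ k.unop) hb.2 t']
      simp
    · intro X t t' h
      obtain ⟨a, rfl, -⟩ := htor.1 X t t'
      have h1 := (congrArg toGrp h).trans (heq X a t)
      rw [left_eq_mul, inv_eq_one] at h1
      rw [hu X (h1.trans (map_one (u.hom.app X).hom).symm), T.one_smul]
    · rintro ⟨t, rfl⟩
      exact (hq' X.unop t).symm
    · intro hg
      obtain ⟨X⟩ := X
      have hex : ∀ ⦃Y : C⦄ (a : Y ⟶ X), S X a →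
          ∃ t, toGrp (ι.hom.app (op Y) t) = G.obj.map a.op g := fun Y a ha => by
        obtain ⟨t₀⟩ := hne X a ha
        have h1 : pr π (toGrp (ι.hom.app (op Y) t₀)) = pr π (G.obj.map a.op g) := by
          rw [← pr_map]
          exact (hq X a ha t₀).symm.trans (congrArg _ hg.symm)
        obtain ⟨b, hb⟩ := (hQ.1 _ _ _).mp h1
        exact ⟨T.smul b⁻¹ t₀, by rw [heq, map_inv, inv_inv, hb]⟩
      choose t ht using hex
      have hinj : ∀ Z : Cᵒᵖ, Function.Injective (ι.hom.app Z) := fun Z t t' h => by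
        obtain ⟨a, rfl, -⟩ := htor.1 Z t t'
        have h1 := (congrArg toGrp h).trans (heq Z a t)
        rw [left_eq_mul, inv_eq_one] at h1
        rw [hu Z (h1.trans (map_one (u.hom.app Z).hom).symm), T.one_smul]
      obtain ⟨x, hx, -⟩ := Fib44.type_glue T.P (hS X) (fun Y a ha => t a ha) fun Z Y k a ha =>
        hinj _ (by
          rw [NatTrans.naturality_apply]
          change G.obj.map k.op (toGrp (ι.hom.app (op Y) (t a ha))) = toGrp (ι.hom.app (op Z) _)
          rw [ht, ht]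
          simp)
      refine ⟨x, Fib44.grp_ext (hS X) fun Y a ha => ?_⟩
      have := NatTrans.naturality_apply ι.hom a.op x
      rw [hx a ha] at this
      exact this.symm.trans (ht a ha)
  · rintro ⟨c, ι, -, -, heq⟩
    refine ⟨ι ≫ ⟨{ app := fun X => ↾fun g => ofGrp (toGrp g)⁻¹
                   naturality := fun X Y k => ConcreteCategory.hom_ext _ _ fun g => by
                     change (G.obj.map k (toGrp g))⁻¹ = G.obj.map k (toGrp g)⁻¹
                     rw [map_inv] }⟩, fun X a t => ?_⟩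
    change (toGrp (ι.hom.app X (T.smul a t)))⁻¹ = u.hom.app X a * (toGrp (ι.hom.app X t))⁻¹
    rw [heq, mul_inv_rev, inv_inv]

theorem cl_eq_one_iff_lifts {c : Q.P.obj.sections} (T : NonAbH1.Torsor F)
    (hT : IsFibreOver u π c T.toGSheaf) :
    T.cl = 1 ↔ ∃ g : (uSh G).obj.sections, ∀ X : Cᵒᵖ, π.hom.hom.app X (g.1 X) = c.1 X := by
  rw [cl_eq_one_iff]
  obtain ⟨ι, hinj, himg, -⟩ := hT
  constructor
  · rintro ⟨s, hs⟩
    refine ⟨⟨fun X => ι.hom.app X (s X), fun {X Y} k => ?_⟩, fun X => (himg X _).mp ⟨_, rfl⟩⟩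
    rw [← NatTrans.naturality_apply, hs k]
  · rintro ⟨g, hg⟩
    choose t ht using fun X => (himg X (toGrp (g.1 X))).mpr (hg X)
    refine ⟨t, fun {X Y} k => hinj Y ?_⟩
    rw [NatTrans.naturality_apply]
    exact ((congrArg _ (ht X)).trans (g.2 k)).trans (ht Y).symm

end Boundary

end Trivial

end Groth.Agent.Bdry37
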