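import Groth.Agent.Bdry37.Basic
import Mathlib.Algebra.Category.Grp.FilteredColimits
import Mathlib.CategoryTheory.Category.ULift
import Mathlib.CategoryTheory.Sites.Point.Conservative
import Mathlib.CategoryTheory.Sites.Over

/-!
On a site with enough points every sheaf of groups embeds in a product of skyscraper sheaves of
groups, and such a product has only trivial torsors over every object.
-/

set_option autoImplicit false
universe u

open CategoryTheory Opposite Limits NonAbH1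

namespace Groth.Agent.Bdry37

variable {C : Type (u + 1)} [Category.{u} C] {J : GrothendieckTopology C} {I : Type u}
  (Φ : I → GrothendieckTopology.Point.{u} J)

variable {Φ}

/-- Two neighbourhoods with equal images have a common refinement. -/
theorem exists_refine (i : I) {U V₁ V₂ : C} (f₁ : V₁ ⟶ U) (f₂ : V₂ ⟶ U) (y₁ : (Φ i).fiber.obj V₁)
    (y₂ : (Φ i).fiber.obj V₂) (h : (Φ i).fiber.map f₁ y₁ = (Φ i).fiber.map f₂ y₂) :
    ∃ (W : C) (k₁ : W ⟶ V₁) (k₂ : W ⟶ V₂) (w : (Φ i).fiber.obj W),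
      k₁ ≫ f₁ = k₂ ≫ f₂ ∧ (Φ i).fiber.map k₁ w = y₁ ∧ (Φ i).fiber.map k₂ w = y₂ := by
  have := (Φ i).isCofiltered
  let e₁ := (Φ i).fiber.elementsMk V₁ y₁
  let e₂ := (Φ i).fiber.elementsMk V₂ y₂
  let e := (Φ i).fiber.elementsMk U ((Φ i).fiber.map f₁ y₁)
  let g₁ : e₁ ⟶ e := CategoryOfElements.homMk e₁ e f₁ rfl
  let g₂ : e₂ ⟶ e := CategoryOfElements.homMk e₂ e f₂ h.symm
  let a := IsCofiltered.minToLeft e₁ e₂
  let b := IsCofiltered.minToRight e₁ e₂
  let m := IsCofiltered.eqHom (a ≫ g₁) (b ≫ g₂)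
  have hm := IsCofiltered.eq_condition (a ≫ g₁) (b ≫ g₂)
  refine ⟨_, (m ≫ a).1, (m ≫ b).1, (IsCofiltered.eq (a ≫ g₁) (b ≫ g₂)).2, ?_, (m ≫ a).2, (m ≫ b).2⟩
  have := congrArg Subtype.val hm
  simp only [CategoryOfElements.comp_val, g₁, g₂, CategoryOfElements.homMk_coe] at this ⊢
  simpa [m, Category.assoc] using this

/-- Two morphisms with equal images at a point agree on a neighbourhood of that point. -/
theorem exists_eq_refine (i : I) {U V : C} (f g : V ⟶ U) (y : (Φ i).fiber.obj V)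
    (h : (Φ i).fiber.map f y = (Φ i).fiber.map g y) :
    ∃ (W : C) (k : W ⟶ V) (w : (Φ i).fiber.obj W), k ≫ f = k ≫ g ∧ (Φ i).fiber.map k w = y := by
  have := (Φ i).isCofiltered
  let e₁ := (Φ i).fiber.elementsMk V y
  let e := (Φ i).fiber.elementsMk U ((Φ i).fiber.map f y)
  let g₁ : e₁ ⟶ e := CategoryOfElements.homMk e₁ e f rfl
  let g₂ : e₁ ⟶ e := CategoryOfElements.homMk e₁ e g h.symm
  refine ⟨_, (IsCofiltered.eqHom g₁ g₂).1, (IsCofiltered.eq g₁ g₂).2, ?_, (IsCofiltered.eqHom g₁ g₂).2⟩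
  exact congrArg Subtype.val (IsCofiltered.eq_condition g₁ g₂)

variable (Φ) (A : I → GrpCat.{u + 1})

/-- The product of the skyscraper presheaves with values `A i` at the points. -/
def skyProd : Cᵒᵖ ⥤ GrpCat.{u + 1} where
  obj U := GrpCat.of (∀ i, (Φ i).fiber.obj U.unop → A i)
  map k := GrpCat.ofHom
    { toFun := fun g i z => g i ((Φ i).fiber.map k.unop z)
      map_one' := rfl
      map_mul' := fun _ _ => rfl }
  map_id U := by
    refine GrpCat.hom_ext (MonoidHom.ext fun g => funext fun i => funext fun z => ?_)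
    change g i _ = g i z
    simp
  map_comp k l := by
    refine GrpCat.hom_ext (MonoidHom.ext fun g => funext fun i => funext fun z => ?_)
    change g i _ = g i ((Φ i).fiber.map k.unop ((Φ i).fiber.map l.unop z))
    simp

theorem skyProd_isSheaf : Presheaf.IsSheaf J (skyProd Φ A) := by
  rw [Presheaf.isSheaf_iff_isSheaf_comp J (skyProd Φ A) (forget GrpCat.{u + 1}),
    isSheaf_iff_isSheaf_of_type]
  intro U S hS x hx
  rw [Presieve.compatible_iff_sieveCompatible] at hx
  choose V f hf y hy using fun (i : I) (z : (Φ i).fiber.obj U) => (Φ i).jointly_surjective S hS z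
  have key : ∀ ⦃W : C⦄ (a : W ⟶ U) (ha : S a) (i : I) (w : (Φ i).fiber.obj W)
      (z : (Φ i).fiber.obj U), (Φ i).fiber.map a w = z → x (f i z) (hf i z) i (y i z) = x a ha i w := by
    intro W a ha i w z hz
    obtain ⟨W', k₁, k₂, w', hk, h₁, h₂⟩ := exists_refine i (f i z) a (y i z) w ((hy i z).trans hz.symm)
    have e₁ := congrFun (congrFun (hx (f i z) k₁ (hf i z)) i) w'
    have e₂ := congrFun (congrFun (hx a k₂ ha) i) w'
    have e₃ : x (k₁ ≫ f i z) (S.downward_closed (hf i z) k₁) i w' =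
        x (k₂ ≫ a) (S.downward_closed ha k₂) i w' := by
      have hc : ∀ {b b' : W' ⟶ U} (_ : b = b') (hb : S b) (hb' : S b'), x b hb i w' = x b' hb' i w' := by
        intro b b' e hb hb'; subst e; rfl
      exact hc hk _ _
    rw [← h₁, ← h₂]
    exact e₁.symm.trans (e₃.trans e₂)
  refine ⟨fun i z => x (f i z) (hf i z) i (y i z), fun W a ha => ?_, fun g hg => ?_⟩
  · funext i w
    exact key a ha i w _ rfl
  · funext i z
    have := congrFun (congrFun (hg (f i z) (hf i z)) i) (y i z)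
    rw [← this]
    exact congrArg (g i) (hy i z).symm

/-- The product of the skyscraper sheaves. -/
def skySheaf : Sheaf J GrpCat.{u + 1} := ⟨skyProd Φ A, skyProd_isSheaf Φ A⟩

/-- Every torsor under a product of skyscraper sheaves over an object is trivial. -/
theorem hasSection_over (U : C) (P : GSheaf ((skySheaf Φ A).over U)) (hP : P.IsTorsor) :
    P.HasSection := by
  let T₀ : Over U := Over.mk (𝟙 U)
  obtain ⟨S, hS, hne⟩ := hP.2 T₀
  rw [GrothendieckTopology.mem_over_iff] at hS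
  have hex : ∀ (i : I) (x : (Φ i).fiber.obj U), ∃ (V : Over U) (y : (Φ i).fiber.obj V.left),
      (Φ i).fiber.map V.hom y = x ∧ Nonempty (P.P.obj.obj (op V)) := fun i x => by
    obtain ⟨W, f, hf, y, hy⟩ := (Φ i).jointly_surjective _ hS x
    rw [Sieve.overEquiv_iff] at hf
    exact ⟨_, y, by simpa [T₀] using hy, hne _ hf⟩
  choose V₀ y₀ hy₀ hs₀ using hex
  let s₀ := fun i x => (hs₀ i x).some
  -- common refinements in the over category
  have href : ∀ (i : I) (V₁ V₂ : Over U) (y₁ : (Φ i).fiber.obj V₁.left) (y₂ : (Φ i).fiber.obj V₂.left),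
      (Φ i).fiber.map V₁.hom y₁ = (Φ i).fiber.map V₂.hom y₂ →
      ∃ (W : Over U) (k₁ : W ⟶ V₁) (k₂ : W ⟶ V₂) (w : (Φ i).fiber.obj W.left),
        (Φ i).fiber.map k₁.left w = y₁ ∧ (Φ i).fiber.map k₂.left w = y₂ := by
    intro i V₁ V₂ y₁ y₂ h
    obtain ⟨W, k₁, k₂, w, hk, h₁, h₂⟩ := exists_refine i V₁.hom V₂.hom y₁ y₂ h
    exact ⟨Over.mk (k₁ ≫ V₁.hom), Over.homMk k₁ rfl, Over.homMk k₂ hk.symm, w, h₁, h₂⟩
  -- `t` is good when it coincides with the chosen sections at all points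
  let Good : ∀ V : Over U, P.P.obj.obj (op V) → Prop := fun V t =>
    ∀ (i : I) (z : (Φ i).fiber.obj V.left) (W : Over U) (k₁ : W ⟶ V)
      (k₂ : W ⟶ V₀ i ((Φ i).fiber.map V.hom z)) (w : (Φ i).fiber.obj W.left),
      (Φ i).fiber.map k₁.left w = z → (Φ i).fiber.map k₂.left w = y₀ i _ →
      ∀ γ : ((skySheaf Φ A).over U).obj.obj (op W),
        P.smul γ (P.P.obj.map k₁.op t) = P.P.obj.map k₂.op (s₀ i _) → γ i w = (1 : A i)
  have hmap : ∀ {V V' : Over U} (k : V' ⟶ V) (g : ((skySheaf Φ A).over U).obj.obj (op V)) (i : I)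
      (z : (Φ i).fiber.obj V'.left), ((skySheaf Φ A).over U).obj.map k.op g i z =
        g i ((Φ i).fiber.map k.left z) := fun k g i z => rfl
  -- the value of the correction does not depend on the refinement
  have hind : ∀ (V : Over U) (t : P.P.obj.obj (op V)) (i : I) (z : (Φ i).fiber.obj V.left)
      (x : (Φ i).fiber.obj U) (W W' : Over U) (k₁ : W ⟶ V) (k₁' : W' ⟶ V) (k₂ : W ⟶ V₀ i x)
      (k₂' : W' ⟶ V₀ i x) (w : (Φ i).fiber.obj W.left) (w' : (Φ i).fiber.obj W'.left),
      (Φ i).fiber.map k₁.left w = z → (Φ i).fiber.map k₁'.left w' = z →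
      (Φ i).fiber.map k₂.left w = y₀ i x → (Φ i).fiber.map k₂'.left w' = y₀ i x →
      ∀ (γ : ((skySheaf Φ A).over U).obj.obj (op W)) (γ' : ((skySheaf Φ A).over U).obj.obj (op W')),
        P.smul γ (P.P.obj.map k₁.op t) = P.P.obj.map k₂.op (s₀ i x) →
        P.smul γ' (P.P.obj.map k₁'.op t) = P.P.obj.map k₂'.op (s₀ i x) → γ i w = γ' i w' := by
    intro V t i z x W W' k₁ k₁' k₂ k₂' w w' h₁ h₁' h₂ h₂' γ γ' hγ hγ'
    obtain ⟨W₁, a, a', w₁, ha, ha'⟩ := href i W W' w w' (by
      rw [← Over.w k₁, ← Over.w k₁', Functor.map_comp_apply, Functor.map_comp_apply, h₁, h₁'])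
    obtain ⟨W₂, b, w₂, hb, hb₁⟩ := exists_eq_refine i (a ≫ k₁).left (a' ≫ k₁').left w₁ (by
      simp only [Over.comp_left, Functor.map_comp_apply, ha, ha', h₁, h₁'])
    obtain ⟨W₃, c, w₃, hc, hc₁⟩ := exists_eq_refine i (b ≫ (a ≫ k₂).left) (b ≫ (a' ≫ k₂').left) w₂ (by
        simp only [Over.comp_left, Functor.map_comp_apply, hb₁, ha, ha', h₂, h₂'])
    let p : W₃ ⟶ W₁.left := c ≫ b
    have hp : (Φ i).fiber.map p w₃ = w₁ := by
      simp only [p, Functor.map_comp_apply, hc₁, hb₁]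
    let Q : Over U := Over.mk (p ≫ W₁.hom)
    let q : Q ⟶ W₁ := Over.homMk p rfl
    have hk₁ : (q ≫ a) ≫ k₁ = (q ≫ a') ≫ k₁' := by
      ext
      simp only [Over.comp_left, q, Over.homMk_left, p, Category.assoc] at hb ⊢
      rw [hb]
    have hk₂ : (q ≫ a) ≫ k₂ = (q ≫ a') ≫ k₂' := by
      ext
      simp only [Over.comp_left, q, Over.homMk_left, p, Category.assoc] at hc ⊢
      rw [hc]
    have e1 := congrArg (P.P.obj.map (q ≫ a).op) hγ
    have e2 := congrArg (P.P.obj.map (q ≫ a').op) hγ'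
    rw [P.map_smul, ← Functor.map_comp_apply, ← op_comp, ← Functor.map_comp_apply, ← op_comp] at e1 e2
    rw [hk₁, hk₂] at e1
    have := congrFun (congrFun (Fib44.gsheaf_cancel hP.1 (e1.trans e2.symm)) i) w₃
    rw [hmap, hmap] at this
    simp only [Over.comp_left, q, Over.homMk_left, Functor.map_comp_apply, hp, ha, ha'] at this
    exact this
  -- existence and uniqueness of good sections where there is a section
  have hgood : ∀ (V : Over U) (s : P.P.obj.obj (op V)), ∃! t, Good V t := by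
    intro V s
    have hW := fun (i : I) (z : (Φ i).fiber.obj V.left) =>
      href i V (V₀ i ((Φ i).fiber.map V.hom z)) z (y₀ i _) (hy₀ i _).symm
    choose W k₁ k₂ w h₁ h₂ using hW
    choose γ hγ using fun i z => (hP.1 (op (W i z)) (P.P.obj.map (k₁ i z).op s)
      (P.P.obj.map (k₂ i z).op (s₀ i ((Φ i).fiber.map V.hom z)))).exists
    let g : ((skySheaf Φ A).over U).obj.obj (op V) := fun i z => γ i z i (w i z)
    refine ⟨P.smul g s, ?_, fun t' ht' => ?_⟩
    · intro i z W' l₁ l₂ w' hl₁ hl₂ γ' hγ'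
      rw [P.map_smul, ← P.mul_smul] at hγ'
      have h3 := hind V s i z _ _ _ (k₁ i z) l₁ (k₂ i z) l₂ _ w' (h₁ i z) hl₁ (h₂ i z) hl₂
        (γ i z) _ (hγ i z) hγ'
      have h4 : (γ' * ((skySheaf Φ A).over U).obj.map l₁.op g) i w' = γ' i w' * g i z := by
        rw [← hl₁]; rfl
      rw [h4] at h3
      exact right_eq_mul.mp h3
    · obtain ⟨δ, rfl, -⟩ := hP.1 (op V) s t'
      congr 1
      funext i z
      have h3 := ht' i z (W i z) (k₁ i z) (k₂ i z) (w i z) (h₁ i z) (h₂ i z)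
        (γ i z * (((skySheaf Φ A).over U).obj.map (k₁ i z).op δ)⁻¹) (by
          rw [P.map_smul, ← P.mul_smul, inv_mul_cancel_right]; exact hγ i z)
      change γ i z i (w i z) * (δ i ((Φ i).fiber.map (k₁ i z).left (w i z)))⁻¹ = (1 : A i) at h3
      rw [h₁] at h3
      exact (mul_inv_eq_one.mp h3).symm
  have hgood_map : ∀ {V V' : Over U} (l : V' ⟶ V) (t : P.P.obj.obj (op V)),
      Good V t → Good V' (P.P.obj.map l.op t) := by
    intro V V' l t ht i z W k₁ k₂ w h₁ h₂ γ hγ
    have hx : (Φ i).fiber.map V.hom ((Φ i).fiber.map l.left z) = (Φ i).fiber.map V'.hom z := by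
      rw [← Functor.map_comp_apply, Over.w l]
    rw [← Functor.map_comp_apply, ← op_comp] at hγ
    revert k₂
    rw [← hx]
    intro k₂ h₂ hγ
    exact ht i _ W (k₁ ≫ l) k₂ w (by simp [h₁]) h₂ γ hγ
  choose t ht htu using fun (V : Over U) (a : V ⟶ T₀) (ha : S a) => hgood V (hne a ha).some
  obtain ⟨t₀, -, -⟩ := Fib44.type_glue P.P (J := J.over U) (X := T₀) (S := S)
    ((GrothendieckTopology.mem_over_iff _ _).mpr hS) (fun V a ha => t V a ha)
    fun V' V l a ha => htu V' _ _ _ (hgood_map l _ (ht V a ha))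
  refine ⟨fun V => P.P.obj.map (Over.homMk V.unop.hom (by simp [T₀]) : V.unop ⟶ T₀).op t₀,
    fun {V V'} k => ?_⟩
  rw [← Functor.map_comp_apply]
  have e : (Over.homMk V.unop.hom (by simp [T₀]) : V.unop ⟶ T₀).op ≫ k =
      (Over.homMk V'.unop.hom (by simp [T₀]) : V'.unop ⟶ T₀).op := by
    apply Quiver.Hom.unop_inj
    ext
    simp [T₀]
  rw [e]

variable {Φ}

/-- Every sheaf of groups embeds in a product of skyscraper sheaves. -/
theorem exists_mono_skySheaf (hΦ : ∀ (U : C) (R : Sieve U), (∀ (i : I) (x : (Φ i).fiber.obj U),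
      ∃ (W : C) (k : W ⟶ U) (_ : R k) (w : (Φ i).fiber.obj W), (Φ i).fiber.map k w = x) → R ∈ J U)
    (F : Sheaf J GrpCat.{u + 1}) :
    ∃ (A : I → GrpCat.{u + 1}) (φ : F ⟶ skySheaf Φ A), ∀ U, Function.Injective (φ.hom.app U) := by
  let D : ∀ i, AsSmall.{u + 1} ((Φ i).fiber.Elementsᵒᵖ) ⥤ GrpCat.{u + 1} := fun i =>
    AsSmall.down ⋙ (CategoryOfElements.π (Φ i).fiber).op ⋙ F.obj
  let A : I → GrpCat.{u + 1} := fun i => (GrpCat.FilteredColimits.colimitCocone.{u + 1, u + 1} (D i)).pt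
  let germ : ∀ (i : I) (U : C) (x : (Φ i).fiber.obj U), F.obj.obj (op U) ⟶ A i := fun i U x =>
    (GrpCat.FilteredColimits.colimitCocone.{u + 1, u + 1} (D i)).ι.app
      (AsSmall.up.obj (op ((Φ i).fiber.elementsMk U x)))
  have hnat : ∀ (i : I) (U V : C) (k : V ⟶ U) (z : (Φ i).fiber.obj V),
      F.obj.map k.op ≫ germ i V z = germ i U ((Φ i).fiber.map k z) := fun i U V k z =>
    (GrpCat.FilteredColimits.colimitCocone.{u + 1, u + 1} (D i)).w
      (AsSmall.up.map (CategoryOfElements.homMk ((Φ i).fiber.elementsMk V z)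
        ((Φ i).fiber.elementsMk U ((Φ i).fiber.map k z)) k rfl).op)
  let η : F.obj ⟶ skyProd Φ A :=
    { app := fun U => GrpCat.ofHom
        { toFun := fun a i x => germ i U.unop x a
          map_one' := funext fun i => funext fun x => map_one (germ i U.unop x).hom
          map_mul' := fun a b => funext fun i => funext fun x => map_mul (germ i U.unop x).hom a b }
      naturality := fun U V k => GrpCat.hom_ext (MonoidHom.ext fun a => funext fun i => funext fun z =>
        ConcreteCategory.congr_hom (hnat i U.unop V.unop k.unop z) a) }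
  refine ⟨A, ⟨η⟩, fun U a b hab => ?_⟩
  obtain ⟨U⟩ := U
  let R : Sieve U :=
    { arrows := fun W k => F.obj.map k.op a = F.obj.map k.op b
      downward_closed := fun {W W'} k hk l => by
        simp only [op_comp, Functor.map_comp_apply, hk] }
  have hR : R ∈ J U := by
    refine hΦ U R fun i x => ?_
    have h := congrFun (congrFun hab i) x
    obtain ⟨e, p, q, hpq⟩ := (Types.FilteredColimit.isColimit_eq_iff _
      (isColimitOfPreserves (forget GrpCat.{u + 1})
        (GrpCat.FilteredColimits.colimitCoconeIsColimit.{u + 1, u + 1} (D i)))).mp h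
    let r := IsFiltered.coeqHom p q
    have hr := IsFiltered.coeq_condition p q
    let m := (AsSmall.down.map (p ≫ r)).unop
    have h' := congrArg ((D i).map r) hpq
    change (D i).map r ((D i).map p a) = (D i).map r ((D i).map q b) at h'
    rw [← Functor.map_comp_apply, ← Functor.map_comp_apply, ← hr] at h'
    exact ⟨_, m.1, h', _, m.2⟩
  exact Fib44.grp_ext hR fun W k hk => hk

end Groth.Agent.Bdry37
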